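import Cfsg.Agent.Lib.Helper92.SUG.Defs3

/-!
# SUG (S2412), package [FIXV] (helper86)

A unipotent element `u` of `SU_3` with `(u - 1)^2 ≠ 0` fixes a non-zero isotropic vector.
-/

set_option autoImplicit false

namespace Cfsg.Agent.Lib.Helper86.SUG

open Cfsg.Agent.Lib.Helper92.SUG

universe u

/-- A nilpotent `3 × 3` matrix over a field has vanishing cube. -/
theorem nilpotent_three_pow {F : Type u} [Field F] (N : Matrix (Fin 3) (Fin 3) F)
    (hN : IsNilpotent N) : N ^ 3 = 0 := by
  have h1 := Matrix.isNilpotent_charpoly_sub_pow_of_isNilpotent hN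
  have h2 : N.charpoly - Polynomial.X ^ (Fintype.card (Fin 3)) = 0 := h1.eq_zero
  have h3 : N.charpoly = Polynomial.X ^ 3 := by
    have := sub_eq_zero.mp h2
    simpa using this
  have h4 := Matrix.aeval_self_charpoly N
  rw [h3] at h4
  simpa using h4

/-- The Hermitian form is additive in the first argument. -/
theorem hermForm_sub_left {F : Type u} [Field F] (n q : ℕ) (x y v : Fin n → F) :
    Cfsg.hermForm n F q (x - y) v = Cfsg.hermForm n F q x v - Cfsg.hermForm n F q y v := by
  unfold Cfsg.hermForm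
  rw [← Finset.sum_sub_distrib]
  refine Finset.sum_congr rfl (fun i _ => ?_)
  simp only [Pi.sub_apply]
  ring

/-- Elements of `SU` preserve the form (in terms of `mat`). -/
theorem mat_preserves {F : Type u} [Field F] {n q : ℕ} (g : ↥(Cfsg.SU n F q)) (x y : Fin n → F) :
    Cfsg.hermForm n F q ((mat g).mulVec x) ((mat g).mulVec y) = Cfsg.hermForm n F q x y :=
  g.2 x y

/-- [FIXV]. -/
theorem pkgFixV : PkgFixV.{u} := by
  intro F _ _ q _ u hnil hsq
  set A : Matrix (Fin 3) (Fin 3) F := mat u with hA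
  set N : Matrix (Fin 3) (Fin 3) F := A - 1 with hNdef
  have hN3 : N ^ 3 = 0 := nilpotent_three_pow N hnil
  -- a vector not killed by `N ^ 2`
  obtain ⟨x₀, hx₀⟩ : ∃ x₀ : Fin 3 → F, (N ^ 2).mulVec x₀ ≠ 0 := by
    by_contra hcon
    simp only [not_exists, not_not] at hcon
    apply hsq
    ext i j
    have := congrFun (hcon (Pi.single j 1)) i
    simpa using this
  set v : Fin 3 → F := (N ^ 2).mulVec x₀ with hv
  have hNv : N.mulVec v = 0 := by
    rw [hv, Matrix.mulVec_mulVec, ← pow_succ', hN3, Matrix.zero_mulVec]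
  have hAv : A.mulVec v = v := by
    have : A = N + 1 := by rw [hNdef]; abel
    rw [this, Matrix.add_mulVec, hNv, Matrix.one_mulVec, zero_add]
  have hperp : ∀ x : Fin 3 → F, Cfsg.hermForm 3 F q (N.mulVec x) v = 0 := by
    intro x
    have h1 : N.mulVec x = A.mulVec x - x := by
      rw [hNdef, Matrix.sub_mulVec, Matrix.one_mulVec]
    rw [h1, hermForm_sub_left]
    have h2 := mat_preserves u x v
    rw [← hA, hAv] at h2
    rw [h2, sub_self]
  refine ⟨v, hx₀, hAv, ?_⟩
  have h3 : v = N.mulVec (N.mulVec x₀) := by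
    rw [hv, Matrix.mulVec_mulVec, ← pow_two]
  have := hperp (N.mulVec x₀)
  rw [← h3] at this
  exact this

end Cfsg.Agent.Lib.Helper86.SUG
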